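import Cfsg.Agent.H76.PermFour

/-!
# S3540 / S3577, team HT-E, E4 (helper5)
-/

set_option autoImplicit false

open scoped commutatorElement

namespace Cfsg.Agent.H5.HT

universe u

/-- a group with commutators in an abelian subgroup is solvable -/
theorem solvable_of_comm_mem {G : Type u} [Group G] {A : Subgroup G} (hab : ∀ a ∈ A, ∀ b ∈ A, a * b = b * a)
    {D : Subgroup G} (hD : ∀ g ∈ D, ∀ h ∈ D, ⁅g, h⁆ ∈ A) : Group.IsSolvable D := by
  have h1 : commutator D ≤ A.subgroupOf D := by
    rw [commutator_def, Subgroup.commutator_le]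
    intro g _ h _
    exact hD g g.2 h h.2
  have h2 : Group.IsSolvable (commutator D) := Group.isSolvable_of_comm fun a b => by
    apply Subtype.ext
    apply Subtype.ext
    exact hab _ (h1 a.2) _ (h1 b.2)
  have h3 : Group.IsSolvable (Abelianization D) := inferInstance
  refine Group.isSolvable_of_ker_le_range (commutator D).subtype (Abelianization.of (G := D)) ?_
  rw [Abelianization.ker_of, Subgroup.range_subtype]

/-- E4 -/
theorem solvable_of_small {G : Type u} [Group G] [Finite G] {A F : Subgroup G} (hA : A.Normal) (hF : F.Normal)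
    (hAF : A ≤ F) (hcyc : IsCyclic A) (hC : ∀ g : G, (∀ x ∈ F, g * x = x * g) → g ∈ A)
    (hcard : Nat.card F ≤ 4 * Nat.card A) : Group.IsSolvable G := by
  have hab : ∀ a ∈ A, ∀ b ∈ A, a * b = b * a := fun a ha b hb => by
    have := hcyc.commGroup.mul_comm ⟨a, ha⟩ ⟨b, hb⟩
    exact congrArg Subtype.val this
  -- the action on `A`
  have s1 : Group.IsSolvable (MulAut A) := Group.isSolvable_of_comm fun a b =>
    (hcyc.mulAutMulEquiv A).injective (by rw [map_mul, map_mul, mul_comm])
  -- the action on `F / A`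
  let Fb : Subgroup (G ⧸ A) := F.map (QuotientGroup.mk' A)
  have hFb : Fb.Normal := hF.map _ (QuotientGroup.mk'_surjective A)
  have hc : Nat.card Fb ≤ 4 := by
    have h1 : Nat.card F = Nat.card A * Nat.card Fb := by
      have h2 := Subgroup.card_mul_index (A.subgroupOf F)
      rw [Nat.card_congr (Subgroup.subgroupOfEquivOfLe hAF).toEquiv] at h2
      rw [← h2]
      congr 1
      have e := QuotientGroup.quotientKerEquivRange ((QuotientGroup.mk' A).comp F.subtype)
      have e1 : ((QuotientGroup.mk' A).comp F.subtype).range = Fb := by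
        rw [MonoidHom.range_comp, Subgroup.range_subtype]
      have e2 : ((QuotientGroup.mk' A).comp F.subtype).ker = A.subgroupOf F := by
        ext x
        rw [MonoidHom.mem_ker, Subgroup.mem_subgroupOf]
        exact QuotientGroup.eq_one_iff _
      rw [← e1, Subgroup.index, ← e2]
      exact Nat.card_congr e.toEquiv
    have h3 : 0 < Nat.card A := Nat.card_pos
    nlinarith
  have s2 : Group.IsSolvable (MulAut Fb) := by
    have := H76.PermFour.solvable_perm_of_card_le hc
    exact Group.isSolvable_of_isSolvable_injective (f := MulAut.toPerm Fb)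
      fun a b h => MulEquiv.ext fun x => congrArg (fun p : Equiv.Perm Fb => p x) h
  let Φ : G →* MulAut A × MulAut Fb :=
    (MulAut.conjNormal (H := A)).prod ((MulAut.conjNormal (H := Fb)).comp (QuotientGroup.mk' A))
  have hk : ∀ g ∈ Φ.ker, (∀ a ∈ A, g * a = a * g) ∧ ∀ x ∈ F, ∃ a ∈ A, g * x * g⁻¹ = a * x := by
    intro g hg
    have h1 : MulAut.conjNormal (H := A) g = 1 := congrArg Prod.fst hg
    have h2 : MulAut.conjNormal (H := Fb) (g : G ⧸ A) = 1 := congrArg Prod.snd hg
    constructor
    · intro a ha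
      have h3 := congrArg (fun φ : MulAut A => ((φ ⟨a, ha⟩ : A) : G)) h1
      have h4 : g * a * g⁻¹ = a := h3
      rw [mul_inv_eq_iff_eq_mul] at h4
      exact h4
    · intro x hx
      have h3 := congrArg (fun φ : MulAut Fb => ((φ ⟨(x : G ⧸ A), ⟨x, hx, rfl⟩⟩ : Fb) : G ⧸ A)) h2
      have h4 : (g : G ⧸ A) * x * (g : G ⧸ A)⁻¹ = x := h3
      refine ⟨g * x * g⁻¹ * x⁻¹, ?_, by group⟩
      rw [← QuotientGroup.eq_one_iff]
      show (g : G ⧸ A) * x * (g : G ⧸ A)⁻¹ * (x : G ⧸ A)⁻¹ = 1
      rw [h4, mul_inv_cancel]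
  have s3 : Group.IsSolvable Φ.ker := by
    refine solvable_of_comm_mem hab fun g hg h hh => hC _ ?_
    obtain ⟨g1, g2⟩ := hk g hg
    obtain ⟨h1, h2⟩ := hk h hh
    -- `g h` and `h g` act in the same way on `F`
    have key : ∀ x ∈ F, g * h * x * (g * h)⁻¹ = h * g * x * (h * g)⁻¹ := by
      intro x hx
      obtain ⟨a, ha, ha'⟩ := g2 x hx
      obtain ⟨b, hb, hb'⟩ := h2 x hx
      have e1 : g * h * x * (g * h)⁻¹ = a * b * x := by
        calc g * h * x * (g * h)⁻¹ = g * (h * x * h⁻¹) * g⁻¹ := by group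
          _ = g * b * x * g⁻¹ := by rw [hb']; group
          _ = b * (g * x * g⁻¹) := by rw [g1 b hb]; group
          _ = a * b * x := by rw [ha', ← mul_assoc, hab b hb a ha]
      have e2 : h * g * x * (h * g)⁻¹ = a * b * x := by
        calc h * g * x * (h * g)⁻¹ = h * (g * x * g⁻¹) * h⁻¹ := by group
          _ = h * a * x * h⁻¹ := by rw [ha']; group
          _ = a * (h * x * h⁻¹) := by rw [h1 a ha]; group
          _ = a * b * x := by rw [hb', ← mul_assoc]
      rw [e1, e2]
    intro x hx
    have hy : (h * g)⁻¹ * x * (h * g) ∈ F := by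
      have := hF.conj_mem x hx (h * g)⁻¹
      rwa [inv_inv] at this
    have e := key _ hy
    have e' : h * g * ((h * g)⁻¹ * x * (h * g)) * (h * g)⁻¹ = x := by group
    rw [e'] at e
    calc ⁅g, h⁆ * x = (g * h * ((h * g)⁻¹ * x * (h * g)) * (g * h)⁻¹) * ⁅g, h⁆ := by
          rw [commutatorElement_def]; group
      _ = x * ⁅g, h⁆ := by rw [e]
  exact Group.isSolvable_of_ker_le_range Φ.ker.subtype Φ (by rw [Subgroup.range_subtype])

end Cfsg.Agent.H5.HT
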